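import Groth.Agent.S2107
import Groth.Agent.FlatMorOne.FlatLocusScheme
import Groth.Agent.OmegaSheaf.IsoLocal
import Groth.Agent.QCohMod.Coherent
import Groth.Agent.QCohMod.Stalk
import Mathlib.RingTheory.Flat.Equalizer

/-!
# Injective with flat cokernel versus injective on the fibre, at a point
-/

universe u

open CategoryTheory CategoryTheory.Limits AlgebraicGeometry

namespace Groth.EgaInjFlat

/-- Localizations of algebras of finite presentation are essentially of finite presentation. -/
theorem isEssFP_localizations {A B R S : Type u} [CommRing A] [CommRing B] [CommRing R] [CommRing S]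
    [Algebra A B] [Algebra.FinitePresentation A B] [Algebra A R] [Algebra B S] [Algebra R S]
    [Algebra A S] [IsScalarTower A R S] [IsScalarTower A B S] (T : Submonoid A) [IsLocalization T R]
    (q : Submonoid B) [IsLocalization q S] (hTq : Algebra.algebraMapSubmonoid B T ≤ q) :
    CAlgX.IsEssFinitePresentation R S := by
  let M := Algebra.algebraMapSubmonoid B T
  let Sp := Localization M
  let φ : Sp →+* S := IsLocalization.lift (M := M) (g := algebraMap B S) fun m =>
    IsLocalization.map_units (M := q) S ⟨m.1, hTq m.2⟩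
  letI : Algebra Sp S := φ.toAlgebra
  haveI : IsScalarTower B Sp S := IsScalarTower.of_algebraMap_eq fun a => (IsLocalization.lift_eq _ a).symm
  letI : Algebra R Sp := (IsLocalization.map Sp (algebraMap A B) (M := T) (T := M)
    (Submonoid.le_comap_map T) : R →+* Sp).toAlgebra
  haveI : IsScalarTower A R Sp := IsScalarTower.of_algebraMap_eq fun a => by
    rw [RingHom.algebraMap_toAlgebra (R := R), IsLocalization.map_eq, ← IsScalarTower.algebraMap_apply]
  haveI : Algebra.IsPushout A R B Sp := (Algebra.isPushout_of_isLocalization T R B Sp).symm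
  haveI : Algebra.FinitePresentation R Sp :=
    Algebra.FinitePresentation.equiv (Algebra.IsPushout.equiv A R B Sp)
  haveI : IsScalarTower R Sp S := IsScalarTower.of_algebraMap_eq' (IsLocalization.ringHom_ext T (by
    rw [RingHom.comp_assoc, ← IsScalarTower.algebraMap_eq A R Sp, IsScalarTower.algebraMap_eq A B Sp,
      ← RingHom.comp_assoc, ← IsScalarTower.algebraMap_eq B Sp S, ← IsScalarTower.algebraMap_eq A B S,
      ← IsScalarTower.algebraMap_eq A R S]))
  exact ⟨Sp, inferInstance, inferInstance, inferInstance, inferInstance, q.map (algebraMap B Sp),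
    inferInstance, IsLocalization.isLocalization_of_submonoid_le (R := B) Sp S M q hTq⟩

/-- A module map with flat cokernel which is injective stays injective modulo an ideal. -/
theorem mem_smul_top_of_map_mem {R M N : Type u} [CommRing R] [AddCommGroup M] [Module R M]
    [AddCommGroup N] [Module R N] (I : Ideal R) (u : M →ₗ[R] N) (hu : Function.Injective u)
    [Module.Flat R (N ⧸ LinearMap.range u)] (x : M) (hx : u x ∈ I • (⊤ : Submodule R N)) :
    x ∈ I • (⊤ : Submodule R M) := by
  have hinj := LinearMap.lTensor_injective_of_exact_of_flat (LinearMap.range u).mkQ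
    (Submodule.mkQ_surjective _) u hu (LinearMap.exact_map_mkQ_range u) (R ⧸ I)
  have key : (1 : R ⧸ I) ⊗ₜ[R] x = 0 := by
    apply hinj
    rw [LinearMap.lTensor_tmul, map_zero]
    apply (TensorProduct.quotTensorEquivQuotSMul N I).injective
    rw [map_zero, ← map_one (Ideal.Quotient.mk I), TensorProduct.quotTensorEquivQuotSMul_mk_tmul,
      one_smul]
    exact (Submodule.Quotient.mk_eq_zero _).2 hx
  have h2 := congrArg (TensorProduct.quotTensorEquivQuotSMul M I) key
  rw [map_zero, ← map_one (Ideal.Quotient.mk I), TensorProduct.quotTensorEquivQuotSMul_mk_tmul,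
    one_smul] at h2
  exact (Submodule.Quotient.mk_eq_zero _).1 h2

variable {X Y : Scheme.{u}}

open Groth.QCohMod

/-- The stalk of a finitely presented module is finitely presented over the local ring. -/
theorem finitePresentation_stalk (F : X.Modules) [F.IsQuasicoherent] (hF : CohB1.IsFP F) (x : X) :
    Module.FinitePresentation (X.presheaf.stalk x) (F.presheaf.stalk x) := by
  obtain ⟨_, ⟨U : X.Opens, hU, rfl⟩, hxU, -⟩ :=
    X.isBasis_affineOpens.exists_subset_of_mem_open (Set.mem_univ x) isOpen_univ
  letI := TopCat.Presheaf.algebra_section_stalk X.presheaf ⟨x, hxU⟩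
  letI := stalkModule F x hxU
  haveI : IsScalarTower Γ(X, U) (X.presheaf.stalk x) (F.presheaf.stalk x) :=
    .of_algebraMap_smul fun _ _ => rfl
  haveI := hU.isLocalization_stalk ⟨x, hxU⟩
  haveI := isLocalizedModule_germ F hU x hxU
  haveI := Groth.PropsBasic.FPSections.finitePresentation_sections F hF hU
  exact FinitePresentation.of_isBaseChange (A := X.presheaf.stalk x) (germₗ F x hxU)
    (IsLocalizedModule.isBaseChange (hU.primeIdealOf ⟨x, hxU⟩).asIdeal.primeCompl
      (X.presheaf.stalk x) (germₗ F x hxU))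

/-- The local ring is essentially of finite presentation over that of the image point. -/
theorem isEssFP_stalk (f : X ⟶ Y) [LocallyOfFinitePresentation f] (x : X) :
    letI := (f.stalkMap x).hom.toAlgebra
    CAlgX.IsEssFinitePresentation (Y.presheaf.stalk (f x)) (X.presheaf.stalk x) := by
  obtain ⟨_, ⟨V : Y.Opens, hV, rfl⟩, hxV, -⟩ :=
    Y.isBasis_affineOpens.exists_subset_of_mem_open (Set.mem_univ (f x)) isOpen_univ
  obtain ⟨_, ⟨U : X.Opens, hU, rfl⟩, hxU, hle⟩ :=
    X.isBasis_affineOpens.exists_subset_of_mem_open (show x ∈ f ⁻¹ᵁ V from hxV) (f ⁻¹ᵁ V).2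
  have e : U ≤ f ⁻¹ᵁ V := hle
  letI := (f.stalkMap x).hom.toAlgebra
  letI := (f.appLE V U e).hom.toAlgebra
  haveI : Algebra.FinitePresentation Γ(Y, V) Γ(X, U) := f.finitePresentation_appLE hV hU e
  letI := TopCat.Presheaf.algebra_section_stalk X.presheaf ⟨x, hxU⟩
  letI := TopCat.Presheaf.algebra_section_stalk Y.presheaf ⟨f x, hxV⟩
  letI : Algebra Γ(Y, V) (X.presheaf.stalk x) :=
    ((X.presheaf.germ U x hxU).hom.comp (f.appLE V U e).hom).toAlgebra
  haveI : IsScalarTower Γ(Y, V) Γ(X, U) (X.presheaf.stalk x) := .of_algebraMap_eq fun _ => rfl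
  haveI : IsScalarTower Γ(Y, V) (Y.presheaf.stalk (f x)) (X.presheaf.stalk x) :=
    .of_algebraMap_eq fun r => by
      change X.presheaf.germ U x hxU (f.appLE V U e r) = f.stalkMap x (Y.presheaf.germ V (f x) hxV r)
      rw [Scheme.Hom.germ_stalkMap_apply]
      exact TopCat.Presheaf.germ_res_apply X.presheaf (homOfLE e) x hxU _
  haveI := hV.isLocalization_stalk ⟨f x, hxV⟩
  haveI := hU.isLocalization_stalk ⟨x, hxU⟩
  refine isEssFP_localizations (A := Γ(Y, V)) (B := Γ(X, U))
    (hV.primeIdealOf ⟨f x, hxV⟩).asIdeal.primeCompl (hU.primeIdealOf ⟨x, hxU⟩).asIdeal.primeCompl ?_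
  rintro _ ⟨a, ha, rfl⟩
  refine (mem_basicOpen_iff_notMem_primeIdealOf hU _ x hxU).mp ?_
  rw [Scheme.mem_basicOpen X _ x hxU]
  have h1 : IsUnit (Y.presheaf.germ V (f x) hxV a) :=
    (Scheme.mem_basicOpen Y a (f x) hxV).mp ((mem_basicOpen_iff_notMem_primeIdealOf hV a (f x) hxV).mpr ha)
  have h2 := h1.map (f.stalkMap x).hom
  change IsUnit (X.presheaf.germ U x hxU (f.appLE V U e a))
  have h3 : X.presheaf.germ U x hxU (f.appLE V U e a) = f.stalkMap x (Y.presheaf.germ V (f x) hxV a) := by
    rw [Scheme.Hom.germ_stalkMap_apply]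
    exact TopCat.Presheaf.germ_res_apply X.presheaf (homOfLE e) x hxU _
  rw [h3]
  exact h2

/-- EGA IV 11.3.7 at a point. -/
theorem injective_and_flat_coker_iff (f : X ⟶ Y) [LocallyOfFinitePresentation f] (F F' : X.Modules)
    [F.IsQuasicoherent] [F'.IsQuasicoherent] (hF : CohB1.IsFP F) (hF' : CohB1.IsFP F') (u : F' ⟶ F)
    (x : X) (hflat : FlatMod.IsFlatOverAt f F x) :
    (Function.Injective ((stalk x).map u) ∧ FlatMod.IsFlatOverAt f (cokernel u) x) ↔
      ∀ m : F'.presheaf.stalk x,
        Groth.OmegaSheaf.stalkApp u x m ∈ (Ideal.map (f.stalkMap x).hom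
            (IsLocalRing.maximalIdeal (Y.presheaf.stalk (f x))) •
            (⊤ : Submodule (X.presheaf.stalk x) (F.presheaf.stalk x))) →
          m ∈ (Ideal.map (f.stalkMap x).hom (IsLocalRing.maximalIdeal (Y.presheaf.stalk (f x))) •
            (⊤ : Submodule (X.presheaf.stalk x) (F'.presheaf.stalk x))) := by
  letI := (f.stalkMap x).hom.toAlgebra
  haveI := finitePresentation_stalk F hF x
  haveI := finitePresentation_stalk F' hF' x
  have hS := isEssFP_stalk f x
  haveI : IsLocalHom (algebraMap (Y.presheaf.stalk (f x)) (X.presheaf.stalk x)) :=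
    inferInstanceAs (IsLocalHom (f.stalkMap x).hom)
  letI := FlatMod.moduleStalkOver f F x
  letI := FlatMod.moduleStalkOver f F' x
  letI := FlatMod.moduleStalkOver f (cokernel u) x
  haveI : IsScalarTower (Y.presheaf.stalk (f x)) (X.presheaf.stalk x) (F.presheaf.stalk x) :=
    .of_algebraMap_smul fun _ _ => rfl
  haveI : IsScalarTower (Y.presheaf.stalk (f x)) (X.presheaf.stalk x) (F'.presheaf.stalk x) :=
    .of_algebraMap_smul fun _ _ => rfl
  haveI : IsScalarTower (Y.presheaf.stalk (f x)) (X.presheaf.stalk x)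
      ((cokernel u : X.Modules).presheaf.stalk x) := .of_algebraMap_smul fun _ _ => rfl
  haveI : Module.Flat (Y.presheaf.stalk (f x)) (F.presheaf.stalk x) := hflat
  let ux : F'.presheaf.stalk x →ₗ[X.presheaf.stalk x] F.presheaf.stalk x :=
    { toFun := Groth.OmegaSheaf.stalkApp u x
      map_add' := map_add _
      map_smul' := fun r t => Groth.OmegaSheaf.stalk_map_smul u x r t }
  let px : F.presheaf.stalk x →ₗ[X.presheaf.stalk x] (cokernel u : X.Modules).presheaf.stalk x :=
    { toFun := Groth.OmegaSheaf.stalkApp (cokernel.π u) x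
      map_add' := map_add _
      map_smul' := fun r t => Groth.OmegaSheaf.stalk_map_smul (cokernel.π u) x r t }
  have hsurj : Function.Surjective px :=
    (epi_iff_stalk (cokernel.π u)).mp inferInstance x
  have hex : Function.Exact ux px := by
    have h := (exact_iff_stalk _).mp
      (ShortComplex.exact_of_g_is_cokernel (ShortComplex.mk u (cokernel.π u) (cokernel.condition u))
        (cokernelIsCokernel u)) x
    exact (ShortComplex.ab_exact_iff_function_exact _).mp h
  let e := Function.Exact.linearEquivOfSurjective hex hsurj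
  constructor
  · rintro ⟨hinj, hfl⟩ m hm
    haveI : Module.Flat (Y.presheaf.stalk (f x)) ((cokernel u : X.Modules).presheaf.stalk x) := hfl
    let uR := ux.restrictScalars (Y.presheaf.stalk (f x))
    haveI : Module.Flat (Y.presheaf.stalk (f x)) (F.presheaf.stalk x ⧸ LinearMap.range uR) :=
      Module.Flat.of_linearEquiv (Function.Exact.linearEquivOfSurjective
        (f := uR) (g := px.restrictScalars (Y.presheaf.stalk (f x))) hex hsurj)
    have hm' : uR m ∈ IsLocalRing.maximalIdeal (Y.presheaf.stalk (f x)) •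
        (⊤ : Submodule (Y.presheaf.stalk (f x)) (F.presheaf.stalk x)) := by
      rw [← Submodule.restrictScalars_top (Y.presheaf.stalk (f x)) (X.presheaf.stalk x)
        (F.presheaf.stalk x), ← Ideal.smul_restrictScalars]
      exact hm
    have := mem_smul_top_of_map_mem _ uR hinj m hm'
    rw [← Submodule.restrictScalars_top (Y.presheaf.stalk (f x)) (X.presheaf.stalk x)
        (F'.presheaf.stalk x), ← Ideal.smul_restrictScalars] at this
    exact this
  · intro h
    obtain ⟨hinj, hfl⟩ := Groth.Agent.S2107.result hS ux h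
    exact ⟨hinj, Module.Flat.of_linearEquiv (e.symm.restrictScalars (Y.presheaf.stalk (f x)))⟩

end Groth.EgaInjFlat
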